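import Mathlib.RingTheory.SurjectiveOnStalks
import Mathlib.RingTheory.Nilpotent.Lemmas
import Mathlib.RingTheory.Nilpotent.Basic
import Mathlib.RingTheory.Localization.AtPrime.Basic
import Mathlib.Tactic.LinearCombination
import Mathlib.Tactic.Ring

set_option linter.unusedSectionVars false
set_option linter.unusedVariables false
set_option linter.unusedSimpArgs false
set_option autoImplicit false
set_option linter.style.haveILetI false
set_option maxHeartbeats 400000

/-!
# Surjectivity on stalks can be checked modulo the square of a nilpotent ideal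
-/

namespace Groth.Agent.Helper6.NilImmLib

open Ideal

/-- a subring which generates modulo the square of a nilpotent ideal is everything -/
theorem subring_eq_top_of_add_sq {R : Type*} [CommRing R] (S : Subring R) (J : Ideal R) (n : ℕ)
    (hJ : J ^ n = ⊥) (h : ∀ y : R, ∃ σ ∈ S, y - σ ∈ J ^ 2) : S = ⊤ := by
  -- the ideal generated by `S ∩ J`
  set J₀ : Ideal R := Ideal.span {t | t ∈ S ∧ t ∈ J} with hJ₀
  have hJ₀J : J₀ ≤ J := Ideal.span_le.mpr fun t ht => ht.2
  have hsq : J ^ 2 ≤ J := Ideal.pow_le_self (by norm_num)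
  have h1 : J ≤ J₀ ⊔ J ^ 2 := by
    intro j hj
    obtain ⟨σ, hσ, hd⟩ := h j
    have hσJ : σ ∈ J := by
      have : σ = j - (j - σ) := by ring
      rw [this]
      exact J.sub_mem hj (hsq hd)
    have : j = σ + (j - σ) := by ring
    rw [this]
    exact Submodule.add_mem_sup (Ideal.subset_span ⟨hσ, hσJ⟩) hd
  have h2 : ∀ k : ℕ, J ≤ J₀ ⊔ J ^ (k + 1) := by
    intro k
    induction k with
    | zero => rw [zero_add, pow_one]; exact le_sup_right
    | succ k ih =>
      calc J ≤ J₀ ⊔ J ^ 2 := h1
        _ = J₀ ⊔ J * J := by rw [pow_two]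
        _ ≤ J₀ ⊔ J * (J₀ ⊔ J ^ (k + 1)) := sup_le_sup_left (Ideal.mul_mono_right ih) _
        _ = J₀ ⊔ (J * J₀ ⊔ J * J ^ (k + 1)) := by rw [Ideal.mul_sup]
        _ ≤ J₀ ⊔ J ^ (k + 1 + 1) := by
          refine sup_le le_sup_left (sup_le (le_sup_of_le_left Ideal.mul_le_right) ?_)
          rw [← pow_succ']
          exact le_sup_right
  have h3 : J ≤ J₀ := by
    rcases Nat.eq_zero_or_pos n with rfl | hn
    · -- `J ^ 0 = ⊥` means the ring is trivial
      rw [pow_zero, Ideal.one_eq_top] at hJ
      intro j _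
      have : j ∈ (⊤ : Ideal R) := trivial
      rw [hJ] at this
      rw [(Ideal.mem_bot.mp this)]
      exact J₀.zero_mem
    · have := h2 (n - 1)
      rw [show n - 1 + 1 = n by omega, hJ, sup_bot_eq] at this
      exact this
  -- `R = S + J ^ k` for all `k ≥ 2`
  have h4 : ∀ k : ℕ, ∀ y : R, ∃ σ ∈ S, y - σ ∈ J ^ (k + 2) := by
    intro k
    induction k with
    | zero => simpa using h
    | succ k ih =>
      have key : ∀ x ∈ J₀, ∀ l : R, ∃ σ ∈ S, l * x - σ ∈ J ^ (k + 1 + 2) := by
        intro x hx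
        refine Submodule.span_induction (p := fun x _ => ∀ l : R, ∃ σ ∈ S,
          l * x - σ ∈ J ^ (k + 1 + 2)) ?_ ?_ ?_ ?_ hx
        · intro t ht l
          obtain ⟨σ, hσ, hd⟩ := ih l
          refine ⟨σ * t, S.mul_mem hσ ht.1, ?_⟩
          have : l * t - σ * t = (l - σ) * t := by ring
          rw [this, show k + 1 + 2 = (k + 2) + 1 by ring, pow_succ]
          exact Ideal.mul_mem_mul hd ht.2
        · intro l
          exact ⟨0, S.zero_mem, by simp⟩
        · intro x y _ _ hx hy l
          obtain ⟨σ, hσ, hd⟩ := hx l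
          obtain ⟨τ, hτ, he⟩ := hy l
          refine ⟨σ + τ, S.add_mem hσ hτ, ?_⟩
          have : l * (x + y) - (σ + τ) = (l * x - σ) + (l * y - τ) := by ring
          rw [this]
          exact Ideal.add_mem _ hd he
        · intro a x _ hx l
          obtain ⟨σ, hσ, hd⟩ := hx (l * a)
          refine ⟨σ, hσ, ?_⟩
          rw [smul_eq_mul, ← mul_assoc]
          exact hd
      intro y
      obtain ⟨σ, hσ, hd⟩ := ih y
      have hν : y - σ ∈ J₀ := h3 (Ideal.pow_le_self (by omega) hd)
      obtain ⟨τ, hτ, he⟩ := key _ hν 1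
      refine ⟨σ + τ, S.add_mem hσ hτ, ?_⟩
      have : y - (σ + τ) = 1 * (y - σ) - τ := by ring
      rw [this]
      exact he
  rw [eq_top_iff]
  intro y _
  obtain ⟨σ, hσ, hd⟩ := h4 n y
  have : J ^ (n + 2) = ⊥ := by rw [pow_add, hJ, Ideal.bot_mul]
  rw [this, Ideal.mem_bot, sub_eq_zero] at hd
  rw [hd]
  exact hσ

/-- surjectivity on stalks can be tested modulo the square of a nilpotent ideal -/
theorem surjectiveOnStalks_of_comp_quotient_sq {A B : Type*} [CommRing A] [CommRing B]
    (φ : A →+* B) (N : Ideal B) (n : ℕ) (hN : N ^ n = ⊥)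
    (h : ((Ideal.Quotient.mk (N ^ 2)).comp φ).SurjectiveOnStalks) : φ.SurjectiveOnStalks := by
  intro P hP
  let L := Localization.AtPrime P
  let lam := Localization.localRingHom (P.comap φ) P φ rfl
  let S : Subring L := lam.range
  let J : Ideal L := N.map (algebraMap B L)
  have hJ : J ^ n = ⊥ := by
    show (N.map (algebraMap B L)) ^ n = ⊥
    rw [← Ideal.map_pow, hN, Ideal.map_bot]
  have hNP : N ≤ P := by
    intro x hx
    refine hP.mem_of_pow_mem n ?_
    have : x ^ n ∈ N ^ n := Ideal.pow_mem_pow hx n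
    rw [hN, Ideal.mem_bot] at this
    rw [this]
    exact P.zero_mem
  have hN2P : N ^ 2 ≤ P := (Ideal.pow_le_self (by norm_num)).trans hNP
  have hJ2 : ∀ ν ∈ N ^ 2, algebraMap B L ν ∈ J ^ 2 := by
    intro ν hν
    show algebraMap B L ν ∈ (N.map (algebraMap B L)) ^ 2
    rw [← Ideal.map_pow]
    exact Ideal.mem_map_of_mem _ hν
  -- every element of `B` is in `S + J ^ 2`
  have star : ∀ s : B, ∃ σ ∈ S, algebraMap B L s - σ ∈ J ^ 2 := by
    intro s
    let Pbar := P.map (Ideal.Quotient.mk (N ^ 2))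
    have hker : RingHom.ker (Ideal.Quotient.mk (N ^ 2)) ≤ P := by
      rw [Ideal.mk_ker]; exact hN2P
    have hPbar : Pbar.IsPrime :=
      Ideal.map_isPrime_of_surjective Ideal.Quotient.mk_surjective hker
    have hcomap : ∀ b : B, Ideal.Quotient.mk (N ^ 2) b ∈ Pbar → b ∈ P := by
      intro b hb
      have : b ∈ Pbar.comap (Ideal.Quotient.mk (N ^ 2)) := hb
      rw [Ideal.comap_map_of_surjective _ Ideal.Quotient.mk_surjective,
        ← RingHom.ker_eq_comap_bot, sup_eq_left.mpr hker] at this
      exact this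
    obtain ⟨x, r, cbar, hc, hr, e⟩ :=
      (RingHom.surjective_localRingHom_iff (f := (Ideal.Quotient.mk (N ^ 2)).comp φ) Pbar).mp
        (h Pbar hPbar) (Ideal.Quotient.mk _ s)
    obtain ⟨c, rfl⟩ := Ideal.Quotient.mk_surjective cbar
    have hcP : c ∉ P := fun hcP => hc (Ideal.mem_map_of_mem _ hcP)
    have hrP : φ r ∉ P := fun hrP => hr (Ideal.mem_map_of_mem _ hrP)
    have hν : c * φ r * s - c * φ x ∈ N ^ 2 := by
      rw [← Ideal.Quotient.eq]
      simpa using e
    have hr' : r ∈ (P.comap φ).primeCompl := hrP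
    have hrP' : φ r ∈ P.primeCompl := hrP
    refine ⟨lam (IsLocalization.mk' _ x ⟨r, hr'⟩), ⟨_, rfl⟩, ?_⟩
    have hσ : lam (IsLocalization.mk' _ x ⟨r, hr'⟩) =
        IsLocalization.mk' L (φ x) (⟨φ r, hrP'⟩ : P.primeCompl) :=
      Localization.localRingHom_mk' _ _ _ _ _ _
    rw [hσ]
    have hu : IsUnit (algebraMap B L (c * φ r)) :=
      IsLocalization.map_units L (⟨c * φ r, P.primeCompl.mul_mem hcP hrP⟩ : P.primeCompl)
    have hspec : algebraMap B L (φ r) * IsLocalization.mk' L (φ x) (⟨φ r, hrP'⟩ : P.primeCompl) =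
        algebraMap B L (φ x) := IsLocalization.mk'_spec' L (φ x) (⟨φ r, hrP'⟩ : P.primeCompl)
    have key : algebraMap B L (c * φ r) *
        (algebraMap B L s - IsLocalization.mk' L (φ x) (⟨φ r, hrP'⟩ : P.primeCompl)) =
        algebraMap B L (c * φ r * s - c * φ x) := by
      simp only [map_sub, map_mul]
      linear_combination (-(algebraMap B L c)) * hspec
    have : algebraMap B L s - IsLocalization.mk' L (φ x) (⟨φ r, hrP'⟩ : P.primeCompl) =
        ↑hu.unit⁻¹ * algebraMap B L (c * φ r * s - c * φ x) := by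
      rw [← key, ← mul_assoc, IsUnit.val_inv_mul, one_mul]
    rw [this]
    exact Ideal.mul_mem_left _ _ (hJ2 _ hν)
  -- every element of `L` is in `S + J ^ 2`
  have star' : ∀ y : L, ∃ σ ∈ S, y - σ ∈ J ^ 2 := by
    intro y
    obtain ⟨s, t, rfl⟩ := IsLocalization.exists_mk'_eq P.primeCompl y
    obtain ⟨σs, hσs, hds⟩ := star s
    obtain ⟨σt, hσt, hdt⟩ := star (t : B)
    have hnil : IsNilpotent (-(algebraMap B L (t : B) - σt)) := by
      refine isNilpotent_neg_iff.mpr ⟨n, ?_⟩
      have h1 : algebraMap B L (t : B) - σt ∈ J := Ideal.pow_le_self (by norm_num) hdt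
      have h2 := Ideal.pow_mem_pow h1 n
      rw [hJ, Ideal.mem_bot] at h2
      exact h2
    have hut : IsUnit σt := by
      have h1 : IsUnit (algebraMap B L (t : B)) := IsLocalization.map_units L t
      have := hnil.isUnit_add_left_of_commute h1 (Commute.all _ _)
      rwa [show algebraMap B L (t : B) + -(algebraMap B L (t : B) - σt) = σt by ring] at this
    obtain ⟨a, ha⟩ := hσt
    have hua : IsUnit a := by
      haveI : IsLocalHom lam := Localization.isLocalHom_localRingHom _ _ _ _
      exact isUnit_of_map_unit lam a (by rw [ha]; exact hut)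
    set τ : L := lam ↑hua.unit⁻¹ with hτ
    have hτS : τ ∈ S := ⟨_, rfl⟩
    have hστ : σt * τ = 1 := by
      rw [hτ, ← ha, ← map_mul, IsUnit.mul_val_inv, map_one]
    refine ⟨σs * τ, S.mul_mem hσs hτS, ?_⟩
    have hy : IsLocalization.mk' L s t * algebraMap B L (t : B) = algebraMap B L s :=
      IsLocalization.mk'_spec L s t
    have : IsLocalization.mk' L s t - σs * τ =
        τ * ((algebraMap B L s - σs) -
          IsLocalization.mk' L s t * (algebraMap B L (t : B) - σt)) := by
      have e1 : IsLocalization.mk' L s t = IsLocalization.mk' L s t * (σt * τ) := by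
        rw [hστ, mul_one]
      rw [← hy]
      calc IsLocalization.mk' L s t - σs * τ
          = IsLocalization.mk' L s t * (σt * τ) - σs * τ := by rw [← e1]
        _ = _ := by ring
    rw [this]
    exact Ideal.mul_mem_left _ _ (Ideal.sub_mem _ hds (Ideal.mul_mem_left _ _ hdt))
  have htop := subring_eq_top_of_add_sq S J n hJ star'
  intro y
  have : y ∈ S := by rw [htop]; trivial
  exact this

end Groth.Agent.Helper6.NilImmLib
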