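import Mathlib.AlgebraicGeometry.IdealSheaf.Subscheme
import Mathlib.AlgebraicGeometry.Morphisms.ClosedImmersion
import Mathlib.AlgebraicGeometry.Morphisms.SurjectiveOnStalks
import Groth.Agent.Lib.Helper6.NilImm.Ring

set_option linter.unusedSectionVars false
set_option linter.unusedVariables false
set_option linter.unusedSimpArgs false
set_option autoImplicit false
set_option linter.style.haveILetI false
set_option maxHeartbeats 400000

/-!
# A morphism is a closed immersion if it is one on a first order nilpotent thickening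
-/

namespace Groth.Agent.Helper6.NilImmLib

open AlgebraicGeometry CategoryTheory

universe u

/-- variant of `surjectiveOnStalks_of_comp_quotient_sq` for a surjection with kernel `N ^ 2` -/
theorem surjectiveOnStalks_of_comp_surjective {A B C : Type*} [CommRing A] [CommRing B]
    [CommRing C] (φ : A →+* B) (ψ : B →+* C) (hψ : Function.Surjective ψ)
    (N : Ideal B) (n : ℕ) (hN : N ^ n = ⊥) (hker : RingHom.ker ψ = N ^ 2)
    (h : (ψ.comp φ).SurjectiveOnStalks) : φ.SurjectiveOnStalks := by
  let e := RingHom.quotientKerEquivOfSurjective hψ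
  have h1 : (Ideal.Quotient.mk (RingHom.ker ψ)).comp φ = e.symm.toRingHom.comp (ψ.comp φ) := by
    ext a
    simp only [RingHom.coe_comp, Function.comp_apply, RingEquiv.toRingHom_eq_coe,
      RingHom.coe_coe]
    rw [RingEquiv.eq_symm_apply]
    rfl
  have h2 : ((Ideal.Quotient.mk (RingHom.ker ψ)).comp φ).SurjectiveOnStalks := by
    rw [h1]
    exact (e.symm.surjectiveOnStalks).comp h
  have h3 : ∀ K : Ideal B, K = N ^ 2 → ((Ideal.Quotient.mk K).comp φ).SurjectiveOnStalks →
      φ.SurjectiveOnStalks := by
    intro K hK hh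
    subst hK
    exact surjectiveOnStalks_of_comp_quotient_sq φ N n hN hh
  exact h3 _ hker h2

theorem isClosedImmersion_of_sq (X Y : Scheme.{u}) (f : X ⟶ Y) (I : X.IdealSheafData)
    (hI : IsNilpotent I) (h : IsClosedImmersion ((I ^ 2).subschemeι ≫ f)) :
    IsClosedImmersion f := by
  obtain ⟨n, hn⟩ := hI
  have hnU : ∀ U : X.affineOpens, I.ideal U ^ n = ⊥ := by
    intro U
    have := congrArg (fun K : X.IdealSheafData => K.ideal U) hn
    exact this
  have hsuppI : I.support = ⊤ := by
    rcases Nat.eq_zero_or_pos n with rfl | hpos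
    · have h0 : (⊤ : X.IdealSheafData) = ⊥ := by
        rw [pow_zero] at hn; exact hn
      have : I = ⊥ := le_antisymm (h0 ▸ le_top) bot_le
      rw [this]; exact Scheme.IdealSheafData.support_bot
    · rw [← Scheme.IdealSheafData.support_pow I n (by omega), hn]
      exact Scheme.IdealSheafData.support_bot
  have hsupp : (I ^ 2).support = ⊤ := by
    rw [Scheme.IdealSheafData.support_pow I 2 (by norm_num), hsuppI]
  set ι := (I ^ 2).subschemeι with hι
  have hsurj : Function.Surjective ι.base := by
    rw [← Set.range_eq_univ]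
    have := (I ^ 2).range_subschemeι
    rw [hsupp] at this
    exact this
  have htop : Topology.IsClosedEmbedding f.base := by
    let e : (I ^ 2).subscheme ≃ₜ X :=
      ι.isClosedEmbedding.isEmbedding.toHomeomorphOfSurjective hsurj
    have hcomp : (f.base : X → Y) = (ι ≫ f).base ∘ e.symm := by
      funext y
      have : ι.base (e.symm y) = y := e.apply_symm_apply y
      show f.base y = f.base (ι.base (e.symm y))
      rw [this]
    rw [hcomp]
    exact (ι ≫ f).isClosedEmbedding.comp e.symm.isClosedEmbedding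
  have hstalk : SurjectiveOnStalks f := by
    rw [HasRingHomProperty.iff_appLE (P := @SurjectiveOnStalks)]
    intro V U e
    have hU' : IsAffineOpen (ι ⁻¹ᵁ U.1) := U.2.preimage ι
    have e' : ι ⁻¹ᵁ U.1 ≤ (ι ≫ f) ⁻¹ᵁ V.1 := by
      intro x hx
      exact e hx
    have h1 := HasRingHomProperty.appLE (P := @SurjectiveOnStalks) (f := ι ≫ f)
      inferInstance V ⟨ι ⁻¹ᵁ U.1, hU'⟩ e'
    have h2 : (ι ≫ f).appLE V.1 (ι ⁻¹ᵁ U.1) e' = f.appLE V.1 U.1 e ≫ ι.app U.1 := by
      rw [Scheme.Hom.app_eq_appLE, Scheme.Hom.appLE_comp_appLE]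
    rw [h2] at h1
    refine surjectiveOnStalks_of_comp_surjective (f.appLE V.1 U.1 e).hom (ι.app U.1).hom
      ((I ^ 2).subschemeι_app_surjective U) (I.ideal U) n (hnU U) ?_ h1
    rw [(I ^ 2).ker_subschemeι_app U]
    rfl
  exact { toSurjectiveOnStalks := hstalk, isClosedEmbedding := htop }

end Groth.Agent.Helper6.NilImmLib
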